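import Groth.Agent.Topos.H570.PushFam
import Groth.Agent.Etcore.HpullEq

/-!
# Conversion: `EtLim.HofPush`, `EtLim.HpullThen` in terms of `hp` and `HHmap`
-/

set_option autoImplicit false
universe u

open CategoryTheory CategoryTheory.Limits CategoryTheory.Abelian AlgebraicGeometry Opposite
open scoped Groth.Agent.Etcore.EtInst

namespace Groth.Agent.Topos.H570.HofPushConv

open Groth.Agent.Etcore Groth.Agent.Etcore.EtInst Groth.Agent.Topos.H570.PushFam

variable {X Y : Scheme.{u}}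

theorem HF_map_eq {F G : EtCoh.Ab X} (φ : F ⟶ G) (n : ℕ) (x : HH X F n) :
    @Eq (HH X G n) ((EtCoh.HF X n).map φ x) (HHmap φ n x) := rfl

theorem HpullThen_eq (u : X ⟶ Y) [PreservesFiniteLimits (EtCoh.pull u)] (F : EtCoh.Ab Y)
    {M : EtCoh.Ab X} (α : (EtCoh.pull u).obj F ⟶ M) (n : ℕ) (x : HH Y F n) :
    @Eq (HH X M n) (EtLim.HpullThen u F α n x) (HHmap α n (HpullCalc.hp u F n x)) := rfl

theorem HofPush_eq (u : X ⟶ Y) [PreservesFiniteLimits (EtCoh.pull u)] (F : EtCoh.Ab X) (n : ℕ)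
    (x : HH Y ((EtCoh.push u).obj F) n) :
    @Eq (HH X F n) (EtLim.HofPush u F n x)
      (HHmap ((EtCoh.pullPushAdj u).counit.app F) n (HpullCalc.hp u ((EtCoh.push u).obj F) n x)) := rfl

end Groth.Agent.Topos.H570.HofPushConv
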