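import Groth.Agent.Topos.H570.PushSys
import Groth.Agent.Topos.H570.HofPushConv

/-!
# `EtLim.HofPush` and `EtLim.HpushTrans` in terms of `adj`, `hp` and `HHmap`
-/

set_option autoImplicit false
universe u

open CategoryTheory CategoryTheory.Limits CategoryTheory.Abelian AlgebraicGeometry Opposite
open scoped Groth.Agent.Etcore.EtInst

namespace Groth.Agent.Topos.H570.HofPushCalc

open Groth.Agent.Etcore Groth.Agent.Etcore.EtInst Groth.Agent.Topos.H570.PushFam HofPushConv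

variable {X Y : Scheme.{u}}

/-- `HofPush` after a map of sheaves. -/
theorem HofPush_map (u : X ⟶ Y) [PreservesFiniteLimits (EtCoh.pull u)] {F : EtCoh.Ab Y}
    {F' : EtCoh.Ab X} (ψ : F ⟶ (EtCoh.push u).obj F') (n : ℕ) (x : HH Y F n) :
    @Eq (HH X F' n) (EtLim.HofPush u F' n (HHmap ψ n x))
      (HHmap (adj u ψ) n (HpullCalc.hp u F n x)) := by
  refine (HofPush_eq u F' n (HHmap ψ n x)).trans ?_
  rw [HpullCalc.hp_map, adj, HHmap_comp]

theorem adj_id (u : X ⟶ Y) (F : EtCoh.Ab X) :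
    adj u (𝟙 ((EtCoh.push u).obj F)) = (EtCoh.pullPushAdj u).counit.app F := by
  rw [adj, CategoryTheory.Functor.map_id, Category.id_comp]

theorem HofPush_eq' (u : X ⟶ Y) [PreservesFiniteLimits (EtCoh.pull u)] (F : EtCoh.Ab X) (n : ℕ)
    (x : HH Y ((EtCoh.push u).obj F) n) :
    @Eq (HH X F n) (EtLim.HofPush u F n x)
      (HHmap (adj u (𝟙 ((EtCoh.push u).obj F))) n
        (HpullCalc.hp u ((EtCoh.push u).obj F) n x)) := by
  rw [adj_id]
  exact HofPush_eq u F n x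

theorem HpushTrans_eq {X Xi Xj : Scheme.{u}} (uij : Xj ⟶ Xi) (uj : X ⟶ Xj) (ui : X ⟶ Xi)
    (w : uj ≫ uij = ui) [PreservesFiniteLimits (EtCoh.pull uij)] (F : EtCoh.Ab X) (n : ℕ)
    (x : HH Xi ((EtCoh.push ui).obj F) n) :
    @Eq (HH Xj ((EtCoh.push uj).obj F) n) (EtLim.HpushTrans uij uj ui w F n x)
      (HHmap (adj uij (((EtCoh.pushCongr w.symm).app F).hom ≫
        (EtCoh.pushComp uij uj).inv.app F)) n (HpullCalc.hp uij _ n x)) :=
  HofPush_map uij (((EtCoh.pushCongr w.symm).app F).hom ≫ (EtCoh.pushComp uij uj).inv.app F) n x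

end Groth.Agent.Topos.H570.HofPushCalc
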