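import Groth.Agent.Etcore.ExtAdj

/-!
# Interface for the limit theorem in all degrees, non-cartesian families

`LimSysG A B` : the same as `Groth.Agent.Etcore.LimData.LimSys A B`, except that the family of objects
`G i`, `G'` is only equipped with compatible maps `θ f : P f (G i) ⟶ G j`, `θ' i : Q i (G i) ⟶ G'`
which need not be isomorphisms.

* `R`, `R'` : the induced maps `Ext M (G i) n → Ext (P f M) (G j) n` and
  `Ext M (G i) n → Ext (Q i M) G' n`.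
* `Inj`, `Surj` : the two halves of the limit theorem, for `M : A i` in degree `n`.
-/

set_option autoImplicit false

universe w v u u₀ v₀

open CategoryTheory CategoryTheory.Limits CategoryTheory.Abelian

namespace Groth.Agent.Topos.H570.LimDataG

/-- A system of abelian categories with exact pull back functors, a limit stage, and a compatible
family of objects. -/
structure LimSysG {I : Type u₀} [Category.{v₀} I] (A : I → Type u) [∀ i, Category.{v} (A i)]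
    [∀ i, Abelian (A i)] (B : Type u) [Category.{v} B] [Abelian B] where
  P : ∀ {i j : I} (_ : j ⟶ i), A i ⥤ A j
  Q : ∀ i : I, A i ⥤ B
  addP : ∀ {i j : I} (f : j ⟶ i), (P f).Additive
  addQ : ∀ i : I, (Q i).Additive
  limP : ∀ {i j : I} (f : j ⟶ i), PreservesFiniteLimits (P f)
  limQ : ∀ i : I, PreservesFiniteLimits (Q i)
  colimP : ∀ {i j : I} (f : j ⟶ i), PreservesFiniteColimits (P f)
  colimQ : ∀ i : I, PreservesFiniteColimits (Q i)
  /-- composition -/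
  c : ∀ {i j k : I} (f : j ⟶ i) (g : k ⟶ j) (M : A i), (P g).obj ((P f).obj M) ≅ (P (g ≫ f)).obj M
  c_nat : ∀ {i j k : I} (f : j ⟶ i) (g : k ⟶ j) {M N : A i} (φ : M ⟶ N),
    (P g).map ((P f).map φ) ≫ (c f g N).hom = (c f g M).hom ≫ (P (g ≫ f)).map φ
  d : ∀ {i j : I} (f : j ⟶ i) (M : A i), (Q j).obj ((P f).obj M) ≅ (Q i).obj M
  d_nat : ∀ {i j : I} (f : j ⟶ i) {M N : A i} (φ : M ⟶ N),
    (Q j).map ((P f).map φ) ≫ (d f N).hom = (d f M).hom ≫ (Q i).map φ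
  cd : ∀ {i j k : I} (f : j ⟶ i) (g : k ⟶ j) (M : A i),
    (d g ((P f).obj M)).hom ≫ (d f M).hom = (Q k).map (c f g M).hom ≫ (d (g ≫ f) M).hom
  /-- the family of objects -/
  G : ∀ i : I, A i
  G' : B
  θ : ∀ {i j : I} (f : j ⟶ i), (P f).obj (G i) ⟶ G j
  θ' : ∀ i : I, (Q i).obj (G i) ⟶ G'
  θ_comp : ∀ {i j k : I} (f : j ⟶ i) (g : k ⟶ j),
    (P g).map (θ f) ≫ θ g = (c f g (G i)).hom ≫ θ (g ≫ f)
  θ'_comp : ∀ {i j : I} (f : j ⟶ i),
    (Q j).map (θ f) ≫ θ' j = (d f (G i)).hom ≫ θ' i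

namespace LimSysG

attribute [instance] LimSysG.addP LimSysG.addQ LimSysG.limP LimSysG.limQ LimSysG.colimP
  LimSysG.colimQ

variable {I : Type u₀} [Category.{v₀} I] {A : I → Type u} [∀ i, Category.{v} (A i)]
    [∀ i, Abelian (A i)] {B : Type u} [Category.{v} B] [Abelian B] (L : LimSysG A B)
    [∀ i, HasExt.{w} (A i)] [HasExt.{w} B]

/-- Pull back of an Ext class to a later stage. -/
noncomputable def R {i j : I} (f : j ⟶ i) {M : A i} {n : ℕ} (x : Ext M (L.G i) n) :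
    Ext ((L.P f).obj M) (L.G j) n :=
  (x.mapExactFunctor (L.P f)).comp (Ext.mk₀ (L.θ f)) (add_zero n)

/-- Pull back of an Ext class to the limit stage. -/
noncomputable def R' {i : I} {M : A i} {n : ℕ} (x : Ext M (L.G i) n) :
    Ext ((L.Q i).obj M) L.G' n :=
  (x.mapExactFunctor (L.Q i)).comp (Ext.mk₀ (L.θ' i)) (add_zero n)

/-- Injectivity in degree `n` at `M : A i`: a class at stage `i` which dies at the limit dies at a
later stage. -/
def Inj (n : ℕ) (i : I) (M : A i) : Prop :=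
  ∀ x : Ext M (L.G i) n, L.R' x = 0 → ∃ (j : I) (f : j ⟶ i), L.R f x = 0

/-- Surjectivity in degree `n` at `M : A i`: a class at the limit comes from a later stage. -/
def Surj (n : ℕ) (i : I) (M : A i) : Prop :=
  ∀ ξ : Ext ((L.Q i).obj M) L.G' n, ∃ (j : I) (f : j ⟶ i) (x : Ext ((L.P f).obj M) (L.G j) n),
    L.R' x = (Ext.mk₀ (L.d f M).hom).comp ξ (zero_add n)

end LimSysG

/-! ### Degree zero -/

open LimSysG

section

variable {I : Type u₀} [Category.{v₀} I] {A : I → Type u} [∀ i, Category.{v} (A i)]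
    [∀ i, Abelian (A i)] {B : Type u} [Category.{v} B] [Abelian B] (L : LimSysG A B)
    [∀ i, HasExt.{w} (A i)] [HasExt.{w} B]

theorem R'_mk₀ {i : I} {M : A i} (φ : M ⟶ L.G i) :
    L.R' (Ext.mk₀ φ) = Ext.mk₀ ((L.Q i).map φ ≫ L.θ' i) := by
  rw [LimSysG.R', Ext.mapExactFunctor_mk₀, Ext.mk₀_comp_mk₀]

omit [HasExt.{w} B] in
theorem R_mk₀ {i j : I} (f : j ⟶ i) {M : A i} (φ : M ⟶ L.G i) :
    L.R f (Ext.mk₀ φ) = Ext.mk₀ ((L.P f).map φ ≫ L.θ f) := by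
  rw [LimSysG.R, Ext.mapExactFunctor_mk₀, Ext.mk₀_comp_mk₀]

theorem inj_zero {i : I} {M : A i}
    (h : ∀ φ : M ⟶ L.G i, (L.Q i).map φ ≫ L.θ' i = 0 →
      ∃ (j : I) (f : j ⟶ i), (L.P f).map φ ≫ L.θ f = 0) : L.Inj 0 i M := by
  intro x hx
  obtain ⟨φ, rfl⟩ := (Ext.mk₀_bijective _ _).2 x
  rw [R'_mk₀] at hx
  obtain ⟨j, f, hf⟩ := h φ ((Ext.mk₀_bijective _ _).1 (hx.trans (Ext.mk₀_zero _ _).symm))
  exact ⟨j, f, by rw [R_mk₀, hf, Ext.mk₀_zero]⟩

theorem surj_zero {i : I} {M : A i}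
    (h : ∀ ψ : (L.Q i).obj M ⟶ L.G', ∃ (j : I) (f : j ⟶ i) (φ : (L.P f).obj M ⟶ L.G j),
      (L.Q j).map φ ≫ L.θ' j = (L.d f M).hom ≫ ψ) : L.Surj 0 i M := by
  intro x
  obtain ⟨ψ, rfl⟩ := (Ext.mk₀_bijective _ _).2 x
  obtain ⟨j, f, φ, hφ⟩ := h ψ
  exact ⟨j, f, Ext.mk₀ φ, by rw [R'_mk₀, Ext.mk₀_comp_mk₀, hφ]⟩

end

/-! ### The final statement, with constant coefficients `C i` -/

section

variable {I : Type u₀} [Category.{v₀} I] {A : I → Type u} [∀ i, Category.{v} (A i)]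
    [∀ i, Abelian (A i)] {B : Type u} [Category.{v} B] [Abelian B] (L : LimSysG A B)
    [∀ i, HasExt.{w} (A i)] [HasExt.{w} B] (C : ∀ i, A i) (C' : B)
    (κ : ∀ {i j : I} (f : j ⟶ i), (L.P f).obj (C i) ≅ C j) (κ' : ∀ i, (L.Q i).obj (C i) ≅ C')

theorem R'_precomp₀ {i : I} {M N : A i} (φ : M ⟶ N) {n : ℕ} (x : Ext N (L.G i) n) :
    L.R' ((Ext.mk₀ φ).comp x (zero_add n)) =
      (Ext.mk₀ ((L.Q i).map φ)).comp (L.R' x) (zero_add n) := by
  rw [LimSysG.R', LimSysG.R', Ext.mapExactFunctor_comp, Ext.mapExactFunctor_mk₀,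
    Ext.comp_assoc_of_third_deg_zero]

theorem limit_surj (hκ : ∀ {i j : I} (f : j ⟶ i),
      (L.Q j).map (κ f).hom ≫ (κ' j).hom = (L.d f (C i)).hom ≫ (κ' i).hom)
    (n : ℕ) (i : I) (h : L.Surj n i (C i)) (ξ : Ext C' L.G' n) :
    ∃ (j : I) (x : Ext (C j) (L.G j) n),
      (Ext.mk₀ (κ' j).inv).comp (L.R' x) (zero_add n) = ξ := by
  obtain ⟨j, f, x, hx⟩ := h ((Ext.mk₀ (κ' i).hom).comp ξ (zero_add n))
  refine ⟨j, (Ext.mk₀ (κ f).inv).comp x (zero_add n), ?_⟩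
  rw [R'_precomp₀, hx, Ext.mk₀_comp_mk₀_assoc, Ext.mk₀_comp_mk₀_assoc, Ext.mk₀_comp_mk₀_assoc]
  have : ((κ' j).inv ≫ (L.Q j).map (κ f).inv ≫ (L.d f (C i)).hom ≫ (κ' i).hom) = 𝟙 _ := by
    rw [← hκ, ← Functor.map_comp_assoc, Iso.inv_hom_id, CategoryTheory.Functor.map_id,
      Category.id_comp, Iso.inv_hom_id]
  simp only [Category.assoc]
  rw [this, Ext.mk₀_id_comp]

theorem limit_surj' (hκ : ∀ {i j : I} (f : j ⟶ i),
      (L.Q j).map (κ f).hom ≫ (κ' j).hom = (L.d f (C i)).hom ≫ (κ' i).hom)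
    (n : ℕ) (i : I) (h : L.Surj n i (C i)) (ξ : Ext C' L.G' n) :
    ∃ (j : I) (x : Ext (C j) (L.G j) n),
      ((Ext.mk₀ (κ' j).inv).comp (x.mapExactFunctor (L.Q j)) (zero_add n)).comp
        (Ext.mk₀ (L.θ' j)) (add_zero n) = ξ := by
  obtain ⟨j, x, hx⟩ := limit_surj L C C' κ κ' hκ n i h ξ
  refine ⟨j, x, ?_⟩
  rw [← hx, LimSysG.R', Ext.comp_assoc_of_third_deg_zero]

theorem limit_inj' (n : ℕ) (i : I) (h : L.Inj n i (C i)) (x : Ext (C i) (L.G i) n)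
    (hx : ((Ext.mk₀ (κ' i).inv).comp (x.mapExactFunctor (L.Q i)) (zero_add n)).comp
        (Ext.mk₀ (L.θ' i)) (add_zero n) = 0) :
    ∃ (j : I) (f : j ⟶ i), ((Ext.mk₀ (κ f).inv).comp (x.mapExactFunctor (L.P f)) (zero_add n)).comp
      (Ext.mk₀ (L.θ f)) (add_zero n) = 0 := by
  rw [Ext.comp_assoc_of_third_deg_zero] at hx
  have h1 : L.R' x = 0 := by
    have := congrArg (fun y => (Ext.mk₀ (κ' i).hom).comp y (zero_add n)) hx
    simpa [LimSysG.R'] using this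
  obtain ⟨j, f, hf⟩ := h x h1
  refine ⟨j, f, ?_⟩
  rw [Ext.comp_assoc_of_third_deg_zero]
  rw [LimSysG.R] at hf
  rw [hf, Ext.comp_zero]

end

end Groth.Agent.Topos.H570.LimDataG
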