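import Groth.Agent.Topos.H570.LimExtG
import Groth.Agent.Etcore.LimEt

/-!
# The limit theorem for étale cohomology, for general compatible systems of sheaves

Let `D : I ⥤ Scheme` be a cofiltered system of qcqs schemes with affine transition maps, with limit `S`
(projections `p i`).  A `Fam p hp` is a compatible family `F i : Ab (D i)`, `F' : Ab S` with
`φ f : (D f)⁻¹ F i ⟶ F j` (for `f : j ⟶ i`), `φ' i : (p i)⁻¹ F i ⟶ F'`.  If in degree zero, for all qcqs étale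
`U → D i`, we have `F'(U ×_{D i} S) = colim_j F j (U ×_{D i} D j)` (`Fam.Inj0`, `Fam.Surj0`), then
`H^n(S, F') = colim H^n(D j, F j)` (`exists_hpThen_eq`, `exists_hpThen_eq_zero`).
-/

set_option autoImplicit false
set_option backward.isDefEq.respectTransparency.types false
universe u

open CategoryTheory CategoryTheory.Limits CategoryTheory.Abelian AlgebraicGeometry Opposite
open scoped Groth.Agent.Etcore.EtInst

namespace Groth.Agent.Topos.H570.LimEtG

open LimDataG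
open Groth.Agent.Etcore Groth.Agent.Etcore.PullCoh Groth.Agent.Etcore.EtZ
  Groth.Agent.Etcore.LimDeg0 Groth.Agent.Etcore.LimEt Groth.Agent.CurvesA
open Groth.Agent.Etcore.LimData (FP)

variable {I : Type u} [SmallCategory I] {D : I ⥤ Scheme.{u}} {S : Scheme.{u}}
  (p : ∀ i, S ⟶ D.obj i) (hp : ∀ {x y : I} (f : x ⟶ y), p x ≫ D.map f = p y)

/-- A compatible family of sheaves on a system of schemes and on its limit. -/
structure Fam where
  /-- the sheaves at the stages -/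
  F : ∀ i, EtCoh.Ab (D.obj i)
  /-- the sheaf at the limit -/
  F' : EtCoh.Ab S
  /-- the transition maps -/
  φ : ∀ {i j : I} (f : j ⟶ i), (EtCoh.pull (D.map f)).obj (F i) ⟶ F j
  /-- the maps to the limit -/
  φ' : ∀ i : I, (EtCoh.pull (p i)).obj (F i) ⟶ F'
  comp : ∀ {i j k : I} (f : j ⟶ i) (g : k ⟶ j),
    (EtCoh.pull (D.map g)).map (φ f) ≫ φ g =
      th (D.map g) (D.map f) (D.map (g ≫ f)) (D.map_comp g f).symm (F i) ≫ φ (g ≫ f)
  comp' : ∀ {i j : I} (f : j ⟶ i),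
    (EtCoh.pull (p j)).map (φ f) ≫ φ' j = th (p j) (D.map f) (p i) (hp f) (F i) ≫ φ' i

variable {p hp}

namespace Fam

variable (𝓕 : Fam p hp)

/-- Injectivity in degree zero. -/
def Inj0 : Prop :=
  ∀ (i : I) (U : (D.obj i).Etale) [CompactSpace U.left] [QuasiSeparatedSpace U.left]
    (s : EtCoh.sect (𝓕.F i) U), (𝓕.φ' i).hom.app _ (eta (p i) _ U s) = 0 →
      ∃ (j : I) (f : j ⟶ i), (𝓕.φ f).hom.app _ (eta (D.map f) _ U s) = 0

/-- Surjectivity in degree zero. -/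
def Surj0 : Prop :=
  ∀ (i : I) (U : (D.obj i).Etale) [CompactSpace U.left] [QuasiSeparatedSpace U.left]
    (s : EtCoh.sect 𝓕.F' ((EtCoh.bc (p i)).obj U)),
      ∃ (j : I) (f : j ⟶ i) (t : EtCoh.sect (𝓕.F j) ((EtCoh.bc (D.map f)).obj U)),
        (𝓕.φ' j).hom.app _ (eta (p j) _ _ t) =
          𝓕.F'.obj.map (bcComp (p j) (D.map f) (p i) (hp f) U).op s

/-- The system of categories of étale sheaves, with the family `𝓕`. -/
noncomputable def sys : LimSysG (fun i => EtCoh.Ab (D.obj i)) (EtCoh.Ab S) where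
  P f := EtCoh.pull (D.map f)
  Q i := EtCoh.pull (p i)
  addP f := inferInstance
  addQ i := inferInstance
  limP f := S0101.result _
  limQ i := S0101.result _
  colimP f := inferInstance
  colimQ i := inferInstance
  c f g M := asIso (th (D.map g) (D.map f) (D.map (g ≫ f)) (D.map_comp g f).symm M)
  c_nat f g _ _ φ := th_nat _ _ _ _ φ
  d f M := asIso (th (p _) (D.map f) (p _) (hp f) M)
  d_nat f _ _ φ := th_nat _ _ _ _ φ
  cd f g M := (th_assoc (p _) (D.map g) (D.map f) _ _ _ (hp g) _ (hp (g ≫ f)) (hp f) M).symm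
  G i := 𝓕.F i
  G' := 𝓕.F'
  θ f := 𝓕.φ f
  θ' i := 𝓕.φ' i
  θ_comp f g := 𝓕.comp f g
  θ'_comp f := 𝓕.comp' f

variable {𝓕}

theorem inj_qcZ (h : 𝓕.Inj0) (i : I) (M : EtCoh.Ab (D.obj i)) (hM : QcZ (D.obj i) M) :
    𝓕.sys.Inj 0 i M := by
  obtain ⟨U, hU, hU', ⟨e⟩⟩ := hM
  refine inj_zero _ fun (φ : M ⟶ 𝓕.F i)
    (hφ : (EtCoh.pull (p i)).map φ ≫ 𝓕.φ' i = 0) => ?_
  obtain ⟨j, f, hf⟩ := h i U (φ.hom.app _ (e.inv.hom.app _ (SiteZU.univ U))) (by
    have h1 := zero_app hφ _ (eta (p i) _ U (e.inv.hom.app _ (SiteZU.univ U)))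
    rw [map_comp_app, eta_map] at h1
    exact h1)
  refine ⟨j, f, ?_⟩
  change (EtCoh.pull (D.map f)).map φ ≫ 𝓕.φ f = 0
  apply pullIso_ext (D.map f) e
  rw [map_comp_app, eta_map, hf]
  exact (zero_app rfl _ _).symm

theorem surj_qcZ (h : 𝓕.Surj0) (i : I) (M : EtCoh.Ab (D.obj i)) (hM : QcZ (D.obj i) M) :
    𝓕.sys.Surj 0 i M := by
  obtain ⟨U, hU, hU', ⟨e⟩⟩ := hM
  refine surj_zero _ fun (ψ : (EtCoh.pull (p i)).obj M ⟶ 𝓕.F') => ?_
  obtain ⟨j, f, s', hs'⟩ := h i U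
    (ψ.hom.app _ (eta (p i) _ U (e.inv.hom.app _ (SiteZU.univ U))))
  obtain ⟨φ, hφ⟩ := exists_pullIso (D.map f) e (𝓕.F j) s'
  refine ⟨j, f, φ, ?_⟩
  change (EtCoh.pull (p j)).map φ ≫ 𝓕.φ' j =
    th (p j) (D.map f) (p i) (hp f) M ≫ ψ
  apply pullIso_ext₂ (p j) (D.map f) e
  rw [map_comp_app, map_comp_app, eta_map, hφ, hs', th_unit, map_res]

section Main

variable [IsCofiltered I] [∀ {i j} (f : i ⟶ j), IsAffineHom (D.map f)]
  [∀ i, CompactSpace (D.obj i)] [∀ i, QuasiSeparatedSpace (D.obj i)]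
  (hc : IsLimit (coneOf p hp))

include hc in
/-- The limit theorem, for `Ext` out of sheaves with free resolutions. -/
theorem injSurj (hI : 𝓕.Inj0) (hS : 𝓕.Surj0) (n : ℕ) (i : I) (M : EtCoh.Ab (D.obj i))
    (hM : ∀ m, FP (QcZ (D.obj i)) m M) : 𝓕.sys.Inj n i M ∧ 𝓕.sys.Surj n i M :=
  LimExtG.main 𝓕.sys (fun i => QcZ (D.obj i))
    (fun f M hM => qcZ_pull (D.map f) M hM)
    (fun i M hM => inj_qcZ hI i M hM)
    (fun i M hM => surj_qcZ hS i M hM)
    (fun _ _ n x hM => kill₁ hM _ n x)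
    (fun _ _ n ξ hM => kill₂ p hp hc hM _ n ξ) n i M hM

open EtInst HpullCalc

include hc in
/-- Every class on the limit comes from a finite stage. -/
theorem exists_hpThen_eq [∀ i, PreservesFiniteLimits (EtCoh.pull (p i))]
    (hI : 𝓕.Inj0) (hS : 𝓕.Surj0) (n : ℕ) (ξ : HH S 𝓕.F' n) :
    ∃ (j : I) (x : HH (D.obj j) (𝓕.F j) n),
      HHmap (𝓕.φ' j) n (HpullCalc.hp (p j) (𝓕.F j) n x) = ξ := by
  obtain ⟨i⟩ := IsCofiltered.nonempty (C := I)
  exact limit_surj' 𝓕.sys (fun i => EtCoh.const (D.obj i) ℤ)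
    (EtCoh.const S ℤ) (fun f => EtCore.pullConst (D.map f) ℤ) (fun i => EtCore.pullConst (p i) ℤ)
    (fun f => pullConst_comp (p _) (D.map f) (p _) (hp f) ℤ) n i
    (injSurj hc hI hS n i _ (FP_const _)).2 ξ

include hc in
/-- A class at a finite stage which dies on the limit dies at a finite stage. -/
theorem exists_hpThen_eq_zero [∀ i, PreservesFiniteLimits (EtCoh.pull (p i))]
    [∀ {i j : I} (f : i ⟶ j), PreservesFiniteLimits (EtCoh.pull (D.map f))]
    (hI : 𝓕.Inj0) (hS : 𝓕.Surj0) (n : ℕ) (j : I) (x : HH (D.obj j) (𝓕.F j) n)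
    (hx : HHmap (𝓕.φ' j) n (HpullCalc.hp (p j) (𝓕.F j) n x) = 0) :
    ∃ (k : I) (f : k ⟶ j), HHmap (𝓕.φ f) n (HpullCalc.hp (D.map f) (𝓕.F j) n x) = 0 := by
  exact limit_inj' 𝓕.sys (fun i => EtCoh.const (D.obj i) ℤ)
    (EtCoh.const S ℤ) (fun f => EtCore.pullConst (D.map f) ℤ) (fun i => EtCore.pullConst (p i) ℤ)
    n j (injSurj hc hI hS n j _ (FP_const _)).1 x hx

end Main

end Fam

end Groth.Agent.Topos.H570.LimEtG
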