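import Groth.Agent.Topos.H570.LimEtG
import Groth.Prelude.Def_EtLim

/-!
# Compatible systems of sheaves given by maps to direct images

`PushFam p hp`: families `F i`, `F'` with `ψ f : F i ⟶ (D f)_* F j`, `ψ' i : F i ⟶ (p i)_* F'`.
The cocycle conditions are stated on sections.
-/

set_option autoImplicit false
set_option backward.isDefEq.respectTransparency.types false
universe u

open CategoryTheory CategoryTheory.Limits CategoryTheory.Abelian AlgebraicGeometry Opposite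
open scoped Groth.Agent.Etcore.EtInst

namespace Groth.Agent.Topos.H570.PushFam

open LimDataG LimEtG
open Groth.Agent.Etcore Groth.Agent.Etcore.PullCoh Groth.Agent.Etcore.EtZ
  Groth.Agent.Etcore.LimDeg0 Groth.Agent.Etcore.LimEt
open Groth.Agent.Etcore.EtInst

/-- The adjoint `u⁻¹ F ⟶ F'` of `ψ : F ⟶ u_* F'`. -/
noncomputable def adj {X Y : Scheme.{u}} (f : X ⟶ Y) {F : EtCoh.Ab Y} {F' : EtCoh.Ab X}
    (ψ : F ⟶ (EtCoh.push f).obj F') : (EtCoh.pull f).obj F ⟶ F' :=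
  (EtCoh.pull f).map ψ ≫ (EtCoh.pullPushAdj f).counit.app F'

theorem adj_eta {X Y : Scheme.{u}} (f : X ⟶ Y) {F : EtCoh.Ab Y} {F' : EtCoh.Ab X}
    (ψ : F ⟶ (EtCoh.push f).obj F') (U : Y.Etale) (s : EtCoh.sect F U) :
    (adj f ψ).hom.app _ (eta f F U s) = ψ.hom.app (op U) s := by
  have h : (EtCoh.pullPushAdj f).unit.app F ≫ (EtCoh.push f).map (adj f ψ) = ψ := by
    have := ((EtCoh.pullPushAdj f).homEquiv F F').apply_symm_apply ψ
    rw [Adjunction.homEquiv_counit, Adjunction.homEquiv_unit] at this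
    exact this
  exact congrArg (fun k => k.hom.app (op U) s) h

variable {I : Type u} [SmallCategory I] {D : I ⥤ Scheme.{u}} {S : Scheme.{u}}
  (p : ∀ i, S ⟶ D.obj i) (hp : ∀ {x y : I} (f : x ⟶ y), p x ≫ D.map f = p y)

end Groth.Agent.Topos.H570.PushFam

namespace Groth.Agent.Topos.H570

open LimDataG LimEtG PushFam
open Groth.Agent.Etcore Groth.Agent.Etcore.PullCoh Groth.Agent.Etcore.EtZ
  Groth.Agent.Etcore.LimDeg0 Groth.Agent.Etcore.LimEt
open Groth.Agent.Etcore.EtInst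

variable {I : Type u} [SmallCategory I] {D : I ⥤ Scheme.{u}} {S : Scheme.{u}}
  (p : ∀ i, S ⟶ D.obj i) (hp : ∀ {x y : I} (f : x ⟶ y), p x ≫ D.map f = p y)

/-- A compatible family of sheaves on a system of schemes and on its limit, given by maps to direct
images. -/
structure PushFam where
  /-- the sheaves at the stages -/
  F : ∀ i, EtCoh.Ab (D.obj i)
  /-- the sheaf at the limit -/
  F' : EtCoh.Ab S
  /-- the transition maps -/
  ψ : ∀ {i j : I} (f : j ⟶ i), F i ⟶ (EtCoh.push (D.map f)).obj (F j)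
  /-- the maps to the limit -/
  ψ' : ∀ i : I, F i ⟶ (EtCoh.push (p i)).obj F'
  comp : ∀ {i j k : I} (f : j ⟶ i) (g : k ⟶ j) (U : (D.obj i).Etale) (s : EtCoh.sect (F i) U),
    (ψ g).hom.app (op ((EtCoh.bc (D.map f)).obj U)) ((ψ f).hom.app (op U) s) =
      (F k).obj.map (bcComp (D.map g) (D.map f) (D.map (g ≫ f)) (D.map_comp g f).symm U).op
        ((ψ (g ≫ f)).hom.app (op U) s)
  comp' : ∀ {i j : I} (f : j ⟶ i) (U : (D.obj i).Etale) (s : EtCoh.sect (F i) U),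
    (ψ' j).hom.app (op ((EtCoh.bc (D.map f)).obj U)) ((ψ f).hom.app (op U) s) =
      F'.obj.map (bcComp (p j) (D.map f) (p i) (hp f) U).op ((ψ' i).hom.app (op U) s)

namespace PushFam

variable {p hp} (𝓕 : PushFam p hp)

/-- The associated `Fam`. -/
noncomputable def toFam : Fam p hp where
  F := 𝓕.F
  F' := 𝓕.F'
  φ f := adj (D.map f) (𝓕.ψ f)
  φ' i := adj (p i) (𝓕.ψ' i)
  comp f g := by
    refine pull_hom_ext₂ _ _ _ _ fun U s => ?_
    rw [map_comp_app, eta_map, adj_eta, adj_eta, map_comp_app, th_unit, map_res, adj_eta]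
    exact 𝓕.comp f g U s
  comp' f := by
    refine pull_hom_ext₂ _ _ _ _ fun U s => ?_
    rw [map_comp_app, eta_map, adj_eta, adj_eta, map_comp_app, th_unit, map_res, adj_eta]
    exact 𝓕.comp' f U s

/-- Injectivity in degree zero. -/
def Inj0 : Prop :=
  ∀ (i : I) (U : (D.obj i).Etale) [CompactSpace U.left] [QuasiSeparatedSpace U.left]
    (s : EtCoh.sect (𝓕.F i) U), (𝓕.ψ' i).hom.app (op U) s = 0 →
      ∃ (j : I) (f : j ⟶ i), (𝓕.ψ f).hom.app (op U) s = 0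

/-- Surjectivity in degree zero. -/
def Surj0 : Prop :=
  ∀ (i : I) (U : (D.obj i).Etale) [CompactSpace U.left] [QuasiSeparatedSpace U.left]
    (s : EtCoh.sect 𝓕.F' ((EtCoh.bc (p i)).obj U)),
      ∃ (j : I) (f : j ⟶ i) (t : EtCoh.sect (𝓕.F j) ((EtCoh.bc (D.map f)).obj U)),
        (𝓕.ψ' j).hom.app (op ((EtCoh.bc (D.map f)).obj U)) t =
          𝓕.F'.obj.map (bcComp (p j) (D.map f) (p i) (hp f) U).op s

variable {𝓕}

theorem toFam_inj0 (h : 𝓕.Inj0) : 𝓕.toFam.Inj0 := by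
  intro i U _ _ s hs
  obtain ⟨j, f, hf⟩ := h i U s (by rw [← adj_eta]; exact hs)
  exact ⟨j, f, (adj_eta _ _ _ _).trans hf⟩

theorem toFam_surj0 (h : 𝓕.Surj0) : 𝓕.toFam.Surj0 := by
  intro i U _ _ s
  obtain ⟨j, f, t, ht⟩ := h i U s
  exact ⟨j, f, t, (adj_eta _ _ _ _).trans ht⟩

section Main

variable [IsCofiltered I] [∀ {i j} (f : i ⟶ j), IsAffineHom (D.map f)]
  [∀ i, CompactSpace (D.obj i)] [∀ i, QuasiSeparatedSpace (D.obj i)]
  (hc : IsLimit (coneOf p hp))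

open HpullCalc

include hc in
/-- Every class on the limit comes from a finite stage. -/
theorem exists_hpThen_eq [∀ i, PreservesFiniteLimits (EtCoh.pull (p i))]
    (hI : 𝓕.Inj0) (hS : 𝓕.Surj0) (n : ℕ) (ξ : HH S 𝓕.F' n) :
    ∃ (j : I) (x : HH (D.obj j) (𝓕.F j) n),
      HHmap (adj (p j) (𝓕.ψ' j)) n (HpullCalc.hp (p j) (𝓕.F j) n x) = ξ :=
  Fam.exists_hpThen_eq (𝓕 := 𝓕.toFam) hc (toFam_inj0 hI) (toFam_surj0 hS) n ξ

include hc in
/-- A class at a finite stage which dies on the limit dies at a finite stage. -/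
theorem exists_hpThen_eq_zero [∀ i, PreservesFiniteLimits (EtCoh.pull (p i))]
    [∀ {i j : I} (f : i ⟶ j), PreservesFiniteLimits (EtCoh.pull (D.map f))]
    (hI : 𝓕.Inj0) (hS : 𝓕.Surj0) (n : ℕ) (j : I) (x : HH (D.obj j) (𝓕.F j) n)
    (hx : HHmap (adj (p j) (𝓕.ψ' j)) n (HpullCalc.hp (p j) (𝓕.F j) n x) = 0) :
    ∃ (k : I) (f : k ⟶ j),
      HHmap (adj (D.map f) (𝓕.ψ f)) n (HpullCalc.hp (D.map f) (𝓕.F j) n x) = 0 :=
  Fam.exists_hpThen_eq_zero (𝓕 := 𝓕.toFam) hc (toFam_inj0 hI) (toFam_surj0 hS) n j x hx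

end Main

end PushFam

end Groth.Agent.Topos.H570
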