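import Groth.Agent.Topos.H570.PushFam

/-!
# The system of direct images `u_{i*} F`
-/

set_option autoImplicit false
set_option backward.isDefEq.respectTransparency.types false
universe u

open CategoryTheory CategoryTheory.Limits CategoryTheory.Abelian AlgebraicGeometry Opposite
open scoped Groth.Agent.Etcore.EtInst

namespace Groth.Agent.Topos.H570.PushSys

open LimDataG LimEtG PushFam
open Groth.Agent.Etcore Groth.Agent.Etcore.PullCoh Groth.Agent.Etcore.EtZ
  Groth.Agent.Etcore.LimDeg0 Groth.Agent.Etcore.LimEt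

theorem pushCongr_rfl_app {X Y : Scheme.{u}} (f : X ⟶ Y) (F : EtCoh.Ab X) (U : Y.Etale)
    (s : EtCoh.sect F ((EtCoh.bc f).obj U)) :
    (((EtCoh.pushCongr (rfl : f = f)).hom.app F).hom.app (op U)) s = s := by
  have h1 : (((EtCoh.pushCongr (rfl : f = f)).hom.app F).hom.app (op U)) s =
      F.obj.map ((MorphismProperty.Over.pullbackCongr (P := EtCoh.etaleMP) (Q := ⊤)
        (rfl : f = f)).inv.app U).op s := rfl
  have h2 : (MorphismProperty.Over.pullbackCongr (P := EtCoh.etaleMP) (Q := ⊤)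
      (rfl : f = f)).inv.app U = 𝟙 ((EtCoh.bc f).obj U) := by
    have h3 := MorphismProperty.Over.pullbackCongr_hom_app_left_fst (P := EtCoh.etaleMP) (Q := ⊤)
      (rfl : f = f) U
    have h4 : (MorphismProperty.Over.pullbackCongr (P := EtCoh.etaleMP) (Q := ⊤)
        (rfl : f = f)).hom.app U = 𝟙 ((EtCoh.bc f).obj U) :=
      hom_bc_ext f _ _ (h3.trans (Category.id_comp _).symm)
    have h5 := (MorphismProperty.Over.pullbackCongr (P := EtCoh.etaleMP) (Q := ⊤)
      (rfl : f = f)).hom_inv_id_app U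
    rw [h4] at h5
    exact (Category.id_comp _).symm.trans h5
  rw [h1, h2]
  exact res_id F s

/-- The map `ui_* F ⟶ uij_* uj_* F`, on sections. -/
theorem push_trans_app {X Xi Xj : Scheme.{u}} (uij : Xj ⟶ Xi) (uj : X ⟶ Xj) (ui : X ⟶ Xi)
    (w : uj ≫ uij = ui) (F : EtCoh.Ab X) (U : Xi.Etale)
    (s : EtCoh.sect F ((EtCoh.bc ui).obj U)) :
    (((EtCoh.pushCongr w.symm).app F).hom ≫ (EtCoh.pushComp uij uj).inv.app F).hom.app (op U) s =
      F.obj.map (bcComp uj uij ui w U).op s := by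
  subst w
  refine Eq.trans ?_ (pushComp_inv_app uj uij F U s)
  exact congrArg (fun t => ((EtCoh.pushComp uij uj).inv.app F).hom.app (op U) t)
    (pushCongr_rfl_app (uj ≫ uij) F U s)

variable {I : Type u} [SmallCategory I] {D : I ⥤ Scheme.{u}} {S : Scheme.{u}}
  (p : ∀ i, S ⟶ D.obj i) (hp : ∀ {x y : I} (f : x ⟶ y), p x ≫ D.map f = p y)

/-- The system of direct images of a sheaf on the limit. -/
noncomputable def pushFam (F : EtCoh.Ab S) : PushFam p hp where
  F i := (EtCoh.push (p i)).obj F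
  F' := F
  ψ {_ j} f := ((EtCoh.pushCongr (hp f).symm).app F).hom ≫
    (EtCoh.pushComp (D.map f) (p j)).inv.app F
  ψ' _ := 𝟙 _
  comp {i j k} f g U s := by
    refine (push_trans_app (D.map g) (p k) (p j) (hp g) F ((EtCoh.bc (D.map f)).obj U) _).trans ?_
    refine (congrArg _ (push_trans_app (D.map f) (p j) (p i) (hp f) F U s)).trans ?_
    refine Eq.trans ?_ (congrArg _ (push_trans_app (D.map (g ≫ f)) (p k) (p i) (hp (g ≫ f)) F U s)).symm
    refine (res_comp F _ _ s).symm.trans ?_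
    refine Eq.trans ?_ (res_comp F (bcComp (p k) (D.map (g ≫ f)) (p i) (hp (g ≫ f)) U)
      ((EtCoh.bc (p k)).map (bcComp (D.map g) (D.map f) (D.map (g ≫ f)) (D.map_comp g f).symm U)) s)
    rw [bcComp_assoc (p k) (D.map g) (D.map f) (p j) (D.map (g ≫ f)) (p i) (hp g)
      (D.map_comp g f).symm (hp (g ≫ f)) (hp f) U]
  comp' {i j} f U s := push_trans_app (D.map f) (p j) (p i) (hp f) F U s

variable (F : EtCoh.Ab S)

theorem pushFam_inj0 : (pushFam p hp F).Inj0 := by
  intro i U _ _ s hs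
  have hs' : s = 0 := hs
  subst hs'
  exact ⟨i, 𝟙 i, app_zero _ _⟩

theorem pushFam_surj0 : (pushFam p hp F).Surj0 := by
  intro i U _ _ s
  exact ⟨i, 𝟙 i, F.obj.map (bcComp (p i) (D.map (𝟙 i)) (p i) (hp (𝟙 i)) U).op s, rfl⟩

end Groth.Agent.Topos.H570.PushSys
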